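import Groth.Agent.Lib.Helper33.ClosedCover.Local
import Groth.Agent.Lib.Helper19.ClosedEmb

/-!
# The sheaves `A_Z = i_* i^* F` for closed subsets `Z` (helper33)
-/

set_option autoImplicit false

universe u

open CategoryTheory CategoryTheory.Limits TopologicalSpace Opposite

namespace Groth.Agent.Lib.Helper33.ClosedCover

open Groth.Agent.Helper19.QuasiHomeo Groth.Agent.Helper19.ClosedAdj Groth.Agent.Helper19.ClosedEmb

variable {X : TopCat.{u}}

/-- the inclusion of a subset -/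
abbrev incl (Z : Set X) : TopCat.of Z ⟶ X := TopCat.ofHom ⟨Subtype.val, continuous_subtype_val⟩

lemma isClosedEmbedding_incl {Z : Set X} (hZ : IsClosed Z) :
    Topology.IsClosedEmbedding (incl Z) := hZ.isClosedEmbedding_subtypeVal

variable (F : CohTop.Ab X)

/-- the sheaf `A_Z = i_* i^* F` -/
noncomputable abbrev AZ (Z : Set X) : CohTop.Ab X :=
  (CohTop.push (incl Z)).obj ((CohTop.pull (incl Z)).obj F)

/-- the unit `F ⟶ A_Z` -/
noncomputable abbrev ηZ (Z : Set X) : F ⟶ AZ F Z := eta (incl Z) F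

/-- the unit is an isomorphism on stalks at points of `Z` -/
lemma isIso_stalk_ηZ {Z : Set X} (hZ : IsClosed Z) (z : Z) :
    IsIso ((Sx (A := AddCommGrpCat.{u}) (z : X)).map (ηZ F Z)) := by
  have hi := isClosedEmbedding_incl hZ
  have hnat := (pullbackStalkIso (A := AddCommGrpCat.{u}) (incl Z) z).hom.naturality (ηZ F Z)
  have hI : IsIso ((Sx (A := AddCommGrpCat.{u}) z).map ((CohTop.pull (incl Z)).map (ηZ F Z))) := by
    have h0 := isIso_pull_eta (incl Z) hi F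
    exact @Functor.map_isIso _ _ _ _ _ _ (Sx (A := AddCommGrpCat.{u}) z) _ h0
  have e1 := isIso_app_hom (incl Z) z F
  have e3 : IsIso ((pullbackStalkIso (A := AddCommGrpCat.{u}) (incl Z) z).hom.app F ≫
      (Sx (A := AddCommGrpCat.{u}) ((incl Z) z)).map (ηZ F Z)) := by
    have e2 := isIso_app_hom (incl Z) z (AZ F Z)
    have e4 : IsIso ((Sx (A := AddCommGrpCat.{u}) z).map ((CohTop.pull (incl Z)).map (ηZ F Z)) ≫
      (pullbackStalkIso (A := AddCommGrpCat.{u}) (incl Z) z).hom.app (AZ F Z)) := IsIso.comp_isIso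
    exact hnat ▸ e4
  exact @IsIso.of_isIso_comp_left _ _ _ _ _
    ((pullbackStalkIso (A := AddCommGrpCat.{u}) (incl Z) z).hom.app F)
    ((Sx (A := AddCommGrpCat.{u}) ((incl Z) z)).map (ηZ F Z)) e1 e3

/-- the unit `F ⟶ A_Z` is an epimorphism -/
lemma epi_ηZ {Z : Set X} (hZ : IsClosed Z) : Epi (ηZ F Z) := by
  have hi := isClosedEmbedding_incl hZ
  apply epi_of_stalk_epi
  intro x
  by_cases hx : x ∈ Z
  · have := isIso_stalk_ηZ F hZ ⟨x, hx⟩
    exact inferInstanceAs (Epi ((Sx (A := AddCommGrpCat.{u}) ((⟨x, hx⟩ : Z) : X)).map (ηZ F Z)))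
  · have h2 := isZero_stalk_push (incl Z) hi ((CohTop.pull (incl Z)).obj F) x (by
      rintro ⟨z, rfl⟩
      exact hx z.2)
    exact ⟨fun g h _ => h2.eq_of_src g h⟩

/-- `A_Z` has no sections over opens disjoint from `Z` -/
lemma subsingleton_AZ (Z : Set X) (W : Opens X) (h : (W : Set X) ∩ Z = ∅) :
    Subsingleton (Γ (AZ F Z) W) := by
  apply subsingleton_of_eq_bot ((CohTop.pull (incl Z)).obj F)
  ext z
  simp only [Opens.coe_bot, Set.mem_empty_iff_false, iff_false]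
  intro hz
  have : (z : X) ∈ (W : Set X) ∩ Z := ⟨hz, z.2⟩
  rw [h] at this
  exact this

/-- a section of `F` killed by the unit vanishes near every point of `Z` -/
lemma eq_zero_near_of_ηZ_eq_zero {Z : Set X} (hZ : IsClosed Z) {W : Opens X} (s : Γ F W)
    (hs : (ηZ F Z).hom.app (op W) s = 0) (x : X) (hxW : x ∈ W) (hxZ : x ∈ Z) :
    ∃ (V : Opens X) (hV : V ≤ W), x ∈ V ∧ rs F hV s = 0 := by
  have hiso := isIso_stalk_ηZ F hZ ⟨x, hxZ⟩
  have hinj : Function.Injective ((Sx (A := AddCommGrpCat.{u}) x).map (ηZ F Z)) := by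
    have hm : Mono ((Sx (A := AddCommGrpCat.{u}) x).map (ηZ F Z)) :=
      inferInstanceAs (Mono ((Sx (A := AddCommGrpCat.{u}) ((⟨x, hxZ⟩ : Z) : X)).map (ηZ F Z)))
    exact (AddCommGrpCat.mono_iff_injective _).1 hm
  have h0 : TopCat.Presheaf.germ F.obj W x hxW s = 0 := by
    apply hinj
    refine Eq.trans ?_ (map_zero (ConcreteCategory.hom ((Sx (A := AddCommGrpCat.{u}) x).map
      (ηZ F Z)))).symm
    have := TopCat.Presheaf.stalkFunctor_map_germ_apply W x hxW (ηZ F Z).hom s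
    refine this.trans ?_
    erw [hs, map_zero]
    rfl
  have h1 : TopCat.Presheaf.germ F.obj W x hxW s = TopCat.Presheaf.germ F.obj W x hxW 0 := by
    rw [h0, map_zero]
  obtain ⟨V, hxV, iU, iV, h2⟩ := TopCat.Presheaf.germ_eq F.obj x hxW hxW s 0 h1
  refine ⟨V, leOfHom iU, hxV, ?_⟩
  have h3 : F.obj.map iU.op s = 0 := by rw [h2, map_zero]
  exact h3

/-! ### The restriction maps -/

/-- the inclusion between subsets -/
abbrev inclLE {Z Z' : Set X} (h : Z' ⊆ Z) : TopCat.of Z' ⟶ TopCat.of Z :=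
  TopCat.ofHom ⟨Set.inclusion h, continuous_inclusion h⟩

lemma inclLE_comp {Z Z' : Set X} (h : Z' ⊆ Z) : inclLE h ≫ incl Z = incl Z' := rfl

/-- pushforward along a composition -/
noncomputable def pushComp {Y Y' : TopCat.{u}} (f : Y' ⟶ Y) (g : Y ⟶ X) :
    CohTop.push f ⋙ CohTop.push g ≅ CohTop.push (f ≫ g) :=
  NatIso.ofComponents (fun G => Iso.refl _) (by
    intro G G' φ
    exact (Category.comp_id ((CohTop.push f ⋙ CohTop.push g).map φ)).trans
      (Category.id_comp ((CohTop.push (f ≫ g)).map φ)).symm)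

/-- the pullback-pushforward adjunction -/
noncomputable abbrev adjP {Y : TopCat.{u}} (f : Y ⟶ X) : CohTop.pull f ⊣ CohTop.push f :=
  TopCat.Sheaf.pullbackPushforwardAdjunction AddCommGrpCat.{u} f

/-- the composite adjunction -/
noncomputable def adjComp {Z Z' : Set X} (h : Z' ⊆ Z) :
    CohTop.pull (incl Z) ⋙ CohTop.pull (inclLE h) ⊣ CohTop.push (incl Z') :=
  ((adjP (incl Z)).comp (adjP (inclLE h))).ofNatIsoRight (pushComp (inclLE h) (incl Z))

/-- pullback along a composite inclusion -/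
noncomputable def pullIso {Z Z' : Set X} (h : Z' ⊆ Z) :
    CohTop.pull (incl Z) ⋙ CohTop.pull (inclLE h) ≅ CohTop.pull (incl Z') :=
  Adjunction.leftAdjointUniq (adjComp h) (adjP (incl Z'))

/-- the restriction map `A_Z ⟶ A_{Z'}` for `Z' ⊆ Z` -/
noncomputable def rZ {Z Z' : Set X} (h : Z' ⊆ Z) : AZ F Z ⟶ AZ F Z' :=
  (CohTop.push (incl Z)).map (eta (inclLE h) ((CohTop.pull (incl Z)).obj F)) ≫
    (pushComp (inclLE h) (incl Z)).hom.app _ ≫
      (CohTop.push (incl Z')).map ((pullIso h).hom.app F)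

lemma ηZ_rZ {Z Z' : Set X} (h : Z' ⊆ Z) : ηZ F Z ≫ rZ F h = ηZ F Z' := by
  have h1 := Adjunction.unit_leftAdjointUniq_hom_app (adjComp h) (adjP (incl Z')) F
  refine Eq.trans ?_ h1
  have h2 : (adjComp h).unit.app F = ηZ F Z ≫
      (CohTop.push (incl Z)).map (eta (inclLE h) ((CohTop.pull (incl Z)).obj F)) ≫
        (pushComp (inclLE h) (incl Z)).hom.app _ := by
    simp [adjComp, eta]
  rw [h2]
  simp only [rZ, pullIso, Category.assoc]


lemma rZ_unique {Z Z' : Set X} (hZ : IsClosed Z) (h : Z' ⊆ Z) (ρ : AZ F Z ⟶ AZ F Z')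
    (hρ : ηZ F Z ≫ ρ = ηZ F Z') : ρ = rZ F h := by
  have := epi_ηZ F hZ
  rw [← cancel_epi (ηZ F Z), hρ, ηZ_rZ]

lemma rZ_refl {Z : Set X} (hZ : IsClosed Z) : rZ F (subset_refl Z) = 𝟙 _ :=
  (rZ_unique F hZ _ _ (Category.comp_id _)).symm

lemma rZ_comp {Z Z' Z'' : Set X} (hZ : IsClosed Z) (h : Z' ⊆ Z) (h' : Z'' ⊆ Z') :
    rZ F h ≫ rZ F h' = rZ F (h'.trans h) :=
  rZ_unique F hZ _ _ (by rw [← Category.assoc, ηZ_rZ, ηZ_rZ])

lemma rZ_congr {Z Z' Z'' : Set X} (h : Z' ⊆ Z) (e : Z' = Z'') :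
    rZ F h ≫ eqToHom (by rw [e]) = rZ F (e ▸ h : Z'' ⊆ Z) := by
  subst e
  simp

end Groth.Agent.Lib.Helper33.ClosedCover
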