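import Groth.Agent.Lib.Helper33.ClosedCover.ProdExact
import Groth.Agent.Lib.Helper33.ExtRightDerived
import Groth.Agent.Lib.Helper36.DescSS.TopRetract
import Groth.Agent.S0463

/-!
# Cohomology of a locally finite product of pushforwards along closed embeddings (helper33)

For a family of closed embeddings `f σ : Y σ ⟶ X` with locally finite images and abelian sheaves
`B σ` on `Y σ`, `H^q(X, ∏_σ f_{σ*} B_σ) ≃ ∏_σ H^q(Y_σ, B_σ)`.
-/

set_option autoImplicit false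

universe u

open CategoryTheory CategoryTheory.Limits TopologicalSpace Opposite Abelian

namespace Groth.Agent.Lib.Helper33.ClosedCover

open Groth.Agent.Lib.Helper33.ExtRD Groth.Agent.Lib.Helper36.DescSS
  Groth.Agent.Helper19.ClosedAdj Groth.Agent.Helper19.ClosedEmb

variable {X : TopCat.{u}} {ι : Type u} (Y : ι → TopCat.{u}) (f : ∀ σ, Y σ ⟶ X)

/-- the product of the pushforwards of a family of sheaves -/
noncomputable abbrev PB (B : ∀ σ, CohTop.Ab (Y σ)) : CohTop.Ab X :=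
  ∏ᶜ fun σ => (CohTop.push (f σ)).obj (B σ)

lemma locFinFam_push (hLF : LocallyFinite (fun σ => Set.range (f σ)))
    (B : ∀ σ, CohTop.Ab (Y σ)) :
    LocFinFam (fun σ => (CohTop.push (f σ)).obj (B σ)) := by
  intro x
  obtain ⟨t, ht, hfin⟩ := hLF x
  obtain ⟨N, hNt, hNo, hxN⟩ := mem_nhds_iff.1 ht
  refine ⟨⟨N, hNo⟩, hxN, _, hfin, fun σ hσ W hW => ?_⟩
  apply subsingleton_of_eq_bot (B σ)
  ext z
  simp only [Opens.coe_bot, Set.mem_empty_iff_false, iff_false]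
  intro hz
  exact hσ ⟨f σ z, ⟨z, rfl⟩, hNt (hW hz)⟩

/-- the pushforward-product of a family of short complexes -/
noncomputable abbrev PS (T : ∀ σ, ShortComplex (CohTop.Ab (Y σ))) :
    ShortComplex (CohTop.Ab X) :=
  prodSC (fun σ => (T σ).map (CohTop.push (f σ)))

lemma PS_shortExact (hf : ∀ σ, Topology.IsClosedEmbedding (f σ))
    (hLF : LocallyFinite (fun σ => Set.range (f σ)))
    (T : ∀ σ, ShortComplex (CohTop.Ab (Y σ))) (hT : ∀ σ, (T σ).ShortExact) :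
    (PS Y f T).ShortExact := by
  apply prodSC_shortExact
  · intro σ
    have := preservesFiniteColimits_push (f σ) (hf σ)
    have hR : PreservesLimitsOfSize.{0, 0} (CohTop.push (f σ)) :=
      (adjP (f σ)).rightAdjoint_preservesLimits
    have : PreservesFiniteLimits (CohTop.push (f σ)) :=
      PreservesLimitsOfSize.preservesFiniteLimits _
    exact (hT σ).map_of_exact _
  · exact locFinFam_push Y f hLF _
  · exact locFinFam_push Y f hLF _

lemma injective_PB (B : ∀ σ, CohTop.Ab (Y σ)) (hB : ∀ σ, Injective (B σ)) :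
    Injective (PB Y f B) := by
  have : ∀ σ, Injective ((CohTop.push (f σ)).obj (B σ)) := fun σ =>
    Injective.injective_of_adjoint (adjP (f σ)) (B σ)
  infer_instance

/-! ### The degree zero comparison -/

variable (A : CohTop.Ab X)

/-- maps into the product of pushforwards -/
noncomputable def θ (B : ∀ σ, CohTop.Ab (Y σ)) :
    (A ⟶ PB Y f B) ≃+ ∀ σ, ((CohTop.pull (f σ)).obj A ⟶ B σ) where
  toFun h σ := ((adjP (f σ)).homAddEquiv A (B σ)).symm (h ≫ Pi.π _ σ)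
  invFun k := Pi.lift (fun σ => (adjP (f σ)).homAddEquiv A (B σ) (k σ))
  left_inv h := by
    apply Pi.hom_ext
    intro σ
    simp
  right_inv k := by
    funext σ
    simp
  map_add' h h' := by
    funext σ
    simp [Preadditive.add_comp]

lemma θ_apply (B : ∀ σ, CohTop.Ab (Y σ)) (h : A ⟶ PB Y f B) (σ : ι) :
    θ Y f A B h σ = ((adjP (f σ)).homEquiv A (B σ)).symm (h ≫ Pi.π _ σ) := rfl

lemma θ_naturality {B B' : ∀ σ, CohTop.Ab (Y σ)} (φ : ∀ σ, B σ ⟶ B' σ)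
    (h : A ⟶ PB Y f B) (σ : ι) :
    θ Y f A B' (h ≫ Limits.Pi.map (fun σ => (CohTop.push (f σ)).map (φ σ))) σ =
      θ Y f A B h σ ≫ φ σ := by
  rw [θ_apply, θ_apply, Category.assoc, Limits.Pi.map_π, ← Category.assoc,
    Adjunction.homEquiv_naturality_right_symm]

/-! ### The induction -/

section Induction

/-- the map induced on products of pushforwards -/
noncomputable def Pmap {B B' : ∀ σ, CohTop.Ab (Y σ)} (φ : ∀ σ, B σ ⟶ B' σ) :
    PB Y f B ⟶ PB Y f B' :=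
  Limits.Pi.map (fun σ => (CohTop.push (f σ)).map (φ σ))

lemma θ_Pmap {B B' : ∀ σ, CohTop.Ab (Y σ)} (φ : ∀ σ, B σ ⟶ B' σ)
    (h : A ⟶ PB Y f B) (σ : ι) :
    θ Y f A B' (h ≫ Pmap Y f φ) σ = θ Y f A B h σ ≫ φ σ :=
  θ_naturality Y f A φ h σ

variable {B₁ B₂ B₃ : ∀ σ, CohTop.Ab (Y σ)} (u : ∀ σ, B₁ σ ⟶ B₂ σ) (v : ∀ σ, B₂ σ ⟶ B₃ σ)
  (w : ∀ σ, u σ ≫ v σ = 0)

include w in
lemma Pmap_zero : Pmap Y f u ≫ Pmap Y f v = 0 := by
  apply Pi.hom_ext
  intro σ
  simp only [Pmap, Category.assoc, Limits.Pi.map_π, Limits.Pi.map_π_assoc, zero_comp]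
  rw [← Functor.map_comp, w, Functor.map_zero, comp_zero]

variable (hf : ∀ σ, Topology.IsClosedEmbedding (f σ))
  (hLF : LocallyFinite (fun σ => Set.range (f σ)))
  (hS : ∀ σ, (ShortComplex.mk (u σ) (v σ) (w σ)).ShortExact)

include hf hLF hS in
lemma P_shortExact :
    (ShortComplex.mk (Pmap Y f u) (Pmap Y f v) (Pmap_zero Y f u v w)).ShortExact :=
  PS_shortExact Y f hf hLF (fun σ => ShortComplex.mk (u σ) (v σ) (w σ)) hS

/-- degree `0` -/
lemma ext_PB_zero (B : ∀ σ, CohTop.Ab (Y σ)) :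
    Nonempty (Ext.{u} A (PB Y f B) 0 ≃+ ∀ σ, Ext.{u} ((CohTop.pull (f σ)).obj A) (B σ) 0) :=
  ⟨(Ext.addEquiv₀).trans ((θ Y f A B).trans
    (AddEquiv.piCongrRight (fun _ => (Ext.addEquiv₀).symm)))⟩

/-- the second map in degree one -/
noncomputable def φ₂ : (A ⟶ PB Y f B₃) →+ ∀ σ, Ext.{u} ((CohTop.pull (f σ)).obj A) (B₁ σ) 1 :=
  AddMonoidHom.pi (fun σ => ((homδ ((CohTop.pull (f σ)).obj A) (hS σ)).comp
    (Pi.evalAddMonoidHom _ σ)).comp (θ Y f A B₃).toAddMonoidHom)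

lemma φ₂_apply (h : A ⟶ PB Y f B₃) (σ : ι) :
    φ₂ Y f A u v w hS h σ = homδ ((CohTop.pull (f σ)).obj A) (hS σ) (θ Y f A B₃ h σ) := rfl

lemma φ₂_surjective [∀ σ, Injective (B₂ σ)] : Function.Surjective (φ₂ Y f A u v w hS) := by
  intro y
  have hs : ∀ σ, ∃ h : (CohTop.pull (f σ)).obj A ⟶ B₃ σ,
      homδ ((CohTop.pull (f σ)).obj A) (hS σ) h = y σ := fun σ =>
    homδ_surjective ((CohTop.pull (f σ)).obj A) (hS σ) (y σ)
  choose h hh using hs
  refine ⟨(θ Y f A B₃).symm h, ?_⟩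
  funext σ
  rw [φ₂_apply, AddEquiv.apply_symm_apply, hh]

lemma φ₂_eq_zero_iff (h : A ⟶ PB Y f B₃) :
    φ₂ Y f A u v w hS h = 0 ↔ ∃ k : A ⟶ PB Y f B₂, k ≫ Pmap Y f v = h := by
  have e2 : φ₂ Y f A u v w hS h = 0 ↔ ∀ σ, ∃ k : (CohTop.pull (f σ)).obj A ⟶ B₂ σ,
      k ≫ v σ = θ Y f A B₃ h σ := by
    rw [funext_iff]
    refine forall_congr' (fun σ => ?_)
    rw [φ₂_apply]
    exact homδ_eq_zero_iff ((CohTop.pull (f σ)).obj A) (hS σ) _
  rw [e2]
  constructor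
  · intro hk
    choose k hk using hk
    refine ⟨(θ Y f A B₂).symm k, ?_⟩
    apply (θ Y f A B₃).injective
    funext σ
    rw [θ_Pmap, AddEquiv.apply_symm_apply, hk]
  · rintro ⟨k, rfl⟩ σ
    exact ⟨θ Y f A B₂ k σ, (θ_Pmap Y f A v k σ).symm⟩

include hf hLF hS in
/-- degree `1` -/
lemma ext_PB_one' [∀ σ, Injective (B₂ σ)] :
    Nonempty (Ext.{u} A (PB Y f B₁) 1 ≃+ ∀ σ, Ext.{u} ((CohTop.pull (f σ)).obj A) (B₁ σ) 1) := by
  have hPS := P_shortExact Y f u v w hf hLF hS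
  have : Injective (ShortComplex.mk (Pmap Y f u) (Pmap Y f v) (Pmap_zero Y f u v w)).X₂ :=
    injective_PB Y f B₂ inferInstance
  have hk : (homδ A hPS).ker = (φ₂ Y f A u v w hS).ker := by
    ext h
    rw [AddMonoidHom.mem_ker, AddMonoidHom.mem_ker, φ₂_eq_zero_iff]
    exact homδ_eq_zero_iff A hPS h
  exact ⟨addEquivOfSurjectiveOfKerEq (homδ A hPS) (φ₂ Y f A u v w hS) (homδ_surjective A hPS)
    (φ₂_surjective Y f A u v w hS) hk⟩

include hf hLF hS in
/-- dimension shifting -/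
lemma ext_PB_succ_succ' [∀ σ, Injective (B₂ σ)] (q : ℕ)
    (e : Ext.{u} A (PB Y f B₃) (q + 1) ≃+
      ∀ σ, Ext.{u} ((CohTop.pull (f σ)).obj A) (B₃ σ) (q + 1)) :
    Nonempty (Ext.{u} A (PB Y f B₁) (q + 2) ≃+
      ∀ σ, Ext.{u} ((CohTop.pull (f σ)).obj A) (B₁ σ) (q + 2)) := by
  have hPS := P_shortExact Y f u v w hf hLF hS
  have : Injective (ShortComplex.mk (Pmap Y f u) (Pmap Y f v) (Pmap_zero Y f u v w)).X₂ :=
    injective_PB Y f B₂ inferInstance
  have hinj : ∀ σ, Injective (ShortComplex.mk (u σ) (v σ) (w σ)).X₂ := fun σ =>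
    inferInstanceAs (Injective (B₂ σ))
  exact ⟨(AddEquiv.ofBijective (extδ A hPS (q + 1))
      ⟨extδ_injective A hPS q, extδ_surjective A hPS (q + 1)⟩).symm.trans
    (e.trans (AddEquiv.piCongrRight (fun σ =>
      AddEquiv.ofBijective (extδ ((CohTop.pull (f σ)).obj A) (hS σ) (q + 1))
        ⟨extδ_injective _ (hS σ) q, extδ_surjective _ (hS σ) (q + 1)⟩)))⟩

include hf hLF in
/-- **`Ext^q(A, ∏ f_{σ*} B_σ) ≃ ∏ Ext^q(f_σ^* A, B_σ)`** for a locally finite family of closed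
embeddings. -/
theorem nonempty_ext_PB (q : ℕ) (B : ∀ σ, CohTop.Ab (Y σ)) :
    Nonempty (Ext.{u} A (PB Y f B) q ≃+ ∀ σ, Ext.{u} ((CohTop.pull (f σ)).obj A) (B σ) q) := by
  have hS : ∀ (B : ∀ σ, CohTop.Ab (Y σ)) (σ : ι), (ShortComplex.mk (Injective.ι (B σ))
      (cokernel.π (Injective.ι (B σ))) (cokernel.condition _)).ShortExact := fun B σ =>
    sesInj_shortExact (B σ)
  cases q with
  | zero => exact ext_PB_zero Y f A B
  | succ q =>
    induction q generalizing B with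
    | zero =>
      exact ext_PB_one' Y f A (fun σ => Injective.ι (B σ))
        (fun σ => cokernel.π (Injective.ι (B σ))) (fun σ => cokernel.condition _) hf hLF (hS B)
    | succ q ih =>
      obtain ⟨e⟩ := ih (fun σ => cokernel (Injective.ι (B σ)))
      exact ext_PB_succ_succ' Y f A (fun σ => Injective.ι (B σ))
        (fun σ => cokernel.π (Injective.ι (B σ))) (fun σ => cokernel.condition _) hf hLF (hS B)
        q e

include hf hLF in
/-- **`H^q(X, ∏ f_{σ*} B_σ) ≃ ∏ H^q(Y_σ, B_σ)`** for a locally finite family of closed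
embeddings. -/
theorem nonempty_H_PB (q : ℕ) (B : ∀ σ, CohTop.Ab (Y σ)) :
    Nonempty (CohTop.H (PB Y f B) q ≃+ ∀ σ, CohTop.H (B σ) q) := by
  obtain ⟨e⟩ := nonempty_ext_PB Y f
    ((constantSheaf (Opens.grothendieckTopology X) AddCommGrpCat.{u}).obj
      (AddCommGrpCat.of (ULift ℤ))) hf hLF q B
  exact ⟨e.trans (AddEquiv.piCongrRight fun σ => Groth.Agent.S0463.extIsoLeft
    ((topPullConstIso (f σ)).app (AddCommGrpCat.of (ULift ℤ))) (B σ) q)⟩

end Induction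

end Groth.Agent.Lib.Helper33.ClosedCover
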