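import Groth.Agent.Lib.Helper33.ClosedCover.AZ
import Mathlib.AlgebraicTopology.AlternatingFaceMapComplex
import Mathlib.CategoryTheory.Limits.Shapes.ConcreteCategory
import Mathlib.CategoryTheory.Limits.Preserves.Shapes.Products

/-!
# The Čech-type cosimplicial sheaf of a closed cover (helper33)

For a family of closed subsets `U i` and an abelian sheaf `F`, the cosimplicial abelian sheaf
`[n] ↦ ∏_{σ : Fin (n+1) → I} A_{Z_σ}`, `Z_σ = ⋂ k, U (σ k)`, its alternating coface complex and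
the augmentation from `F`.
-/

set_option autoImplicit false

universe u

open CategoryTheory CategoryTheory.Limits TopologicalSpace Opposite

namespace Groth.Agent.Lib.Helper33.ClosedCover

variable {X : TopCat.{u}}

/-! ### Sections of a product of sheaves -/

section Pi

variable {ι : Type u} (B : ι → CohTop.Ab X) (W : Opens X)

/-- sections of a product of sheaves are families of sections -/
noncomputable def secPiEquiv : Γ (∏ᶜ B) W ≃ ∀ i, Γ (B i) W :=
  ((forget AddCommGrpCat.{u}).mapIso (PreservesProduct.iso (secF W) B)).toEquiv.trans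
    (Concrete.productEquiv (fun i => (secF W).obj (B i)))

lemma secPiEquiv_apply (s : Γ (∏ᶜ B) W) (i : ι) :
    secPiEquiv B W s i = (Pi.π B i).hom.app (op W) s := by
  dsimp only [secPiEquiv, Equiv.trans_apply]
  rw [Concrete.productEquiv_apply_apply]
  have h := piComparison_comp_π (secF W) B i
  exact congrFun (congrArg (fun t => (ConcreteCategory.hom t : _ → _)) h) s

lemma secPi_ext {s t : Γ (∏ᶜ B) W}
    (h : ∀ i, (Pi.π B i).hom.app (op W) s = (Pi.π B i).hom.app (op W) t) : s = t := by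
  apply (secPiEquiv B W).injective
  funext i
  rw [secPiEquiv_apply, secPiEquiv_apply, h]

lemma secPi_mk (a : ∀ i, Γ (B i) W) :
    ∃ s : Γ (∏ᶜ B) W, ∀ i, (Pi.π B i).hom.app (op W) s = a i :=
  ⟨(secPiEquiv B W).symm a, fun i => by
    rw [← secPiEquiv_apply, Equiv.apply_symm_apply]⟩

end Pi

/-! ### The closed subsets `Z_σ` -/

section Zs

variable {I : Type u} (U : I → Set X)

/-- `Z_σ = ⋂ k, U (σ k)` -/
abbrev Zs {n : ℕ} (σ : Fin (n + 1) → I) : Set X := ⋂ k, U (σ k)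

lemma isClosed_Zs (hU : ∀ i, IsClosed (U i)) {n : ℕ} (σ : Fin (n + 1) → I) : IsClosed (Zs U σ) :=
  isClosed_iInter (fun _ => hU _)

lemma Zs_comp_subset {n m : ℕ} (θ : Fin (n + 1) → Fin (m + 1)) (τ : Fin (m + 1) → I) :
    Zs U τ ⊆ Zs U (τ ∘ θ) :=
  fun _ hx => Set.mem_iInter.2 (fun k => Set.mem_iInter.1 hx (θ k))

lemma mem_Zs {n : ℕ} (σ : Fin (n + 1) → I) (x : X) : x ∈ Zs U σ ↔ ∀ k, x ∈ U (σ k) :=
  Set.mem_iInter

end Zs

/-! ### The cosimplicial sheaf -/

section Cosimp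

variable {I : Type u} (U : I → Set X) (hU : ∀ i, IsClosed (U i)) (F : CohTop.Ab X)

/-- the terms of the cosimplicial sheaf -/
noncomputable abbrev Gn (n : ℕ) : CohTop.Ab X :=
  ∏ᶜ (fun σ : Fin (n + 1) → I => AZ F (Zs U σ))

/-- the structure maps of the cosimplicial sheaf -/
noncomputable def Gmap {n m : ℕ} (θ : Fin (n + 1) → Fin (m + 1)) : Gn U F n ⟶ Gn U F m :=
  Pi.lift (fun τ : Fin (m + 1) → I =>
    Pi.π (fun σ : Fin (n + 1) → I => AZ F (Zs U σ)) (τ ∘ θ) ≫ rZ F (Zs_comp_subset U θ τ))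

@[reassoc (attr := simp)]
lemma Gmap_π {n m : ℕ} (θ : Fin (n + 1) → Fin (m + 1)) (τ : Fin (m + 1) → I) :
    Gmap U F θ ≫ Pi.π (fun σ : Fin (m + 1) → I => AZ F (Zs U σ)) τ =
      Pi.π (fun σ : Fin (n + 1) → I => AZ F (Zs U σ)) (τ ∘ θ) ≫ rZ F (Zs_comp_subset U θ τ) :=
  Pi.lift_π _ _

include hU in
lemma Gmap_id (n : ℕ) : Gmap U F (id : Fin (n + 1) → Fin (n + 1)) = 𝟙 _ := by
  apply Pi.hom_ext
  intro τ
  rw [Gmap_π, Category.id_comp]
  have := rZ_refl F (isClosed_Zs U hU τ)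
  exact (congrArg (fun t => Pi.π (fun σ : Fin (n + 1) → I => AZ F (Zs U σ)) τ ≫ t) this).trans
    (Category.comp_id _)

include hU in
lemma Gmap_comp {n m l : ℕ} (θ : Fin (n + 1) → Fin (m + 1)) (θ' : Fin (m + 1) → Fin (l + 1)) :
    Gmap U F (θ' ∘ θ) = Gmap U F θ ≫ Gmap U F θ' := by
  apply Pi.hom_ext
  intro τ
  rw [Gmap_π, Category.assoc, Gmap_π, Gmap_π_assoc,
    rZ_comp F (isClosed_Zs U hU _) (Zs_comp_subset U θ (τ ∘ θ')) (Zs_comp_subset U θ' τ)]
  rfl

/-- the cosimplicial sheaf of the closed cover -/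
noncomputable def cosimp : CosimplicialObject (CohTop.Ab X) where
  obj n := Gn U F n.len
  map {n m} θ := Gmap U F (θ.toOrderHom : Fin (n.len + 1) → Fin (m.len + 1))
  map_id n := by
    have := Gmap_id U hU F n.len
    exact this
  map_comp {n m l} θ θ' := by
    have := Gmap_comp U hU F (θ.toOrderHom : Fin (n.len + 1) → Fin (m.len + 1))
      (θ'.toOrderHom : Fin (m.len + 1) → Fin (l.len + 1))
    exact this

/-- the Čech-type complex of the closed cover -/
noncomputable def cx : CochainComplex (CohTop.Ab X) ℕ :=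
  AlgebraicTopology.AlternatingCofaceMapComplex.obj (cosimp U hU F)

/-- the augmentations -/
noncomputable def εn (n : ℕ) : F ⟶ Gn U F n :=
  Pi.lift (fun σ : Fin (n + 1) → I => ηZ F (Zs U σ))

@[reassoc (attr := simp)]
lemma εn_π (n : ℕ) (σ : Fin (n + 1) → I) :
    εn U F n ≫ Pi.π (fun σ : Fin (n + 1) → I => AZ F (Zs U σ)) σ = ηZ F (Zs U σ) :=
  Pi.lift_π _ _

@[reassoc (attr := simp)]
lemma εn_Gmap {n m : ℕ} (θ : Fin (n + 1) → Fin (m + 1)) :
    εn U F n ≫ Gmap U F θ = εn U F m := by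
  apply Pi.hom_ext
  intro τ
  rw [Category.assoc, Gmap_π, εn_π_assoc, εn_π, ηZ_rZ]

end Cosimp

end Groth.Agent.Lib.Helper33.ClosedCover
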