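import Groth.Agent.Lib.Helper33.ClosedCover.Cosimp
import Mathlib.Topology.LocallyFinite
import Mathlib.Algebra.Category.Grp.Preadditive

/-!
# Sectionwise description of the differential of the Čech-type complex (helper33)
-/

set_option autoImplicit false

universe u

open CategoryTheory CategoryTheory.Limits TopologicalSpace Opposite

namespace Groth.Agent.Lib.Helper33.ClosedCover

variable {X : TopCat.{u}}

/-! ### Evaluation of morphisms of sheaves at a section -/

/-- evaluation at a section, as an additive map -/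
noncomputable def evalSec {A B : CohTop.Ab X} {W : Opens X} (s : Γ A W) : (A ⟶ B) →+ Γ B W where
  toFun φ := φ.hom.app (op W) s
  map_zero' := rfl
  map_add' _ _ := rfl

lemma evalSec_apply {A B : CohTop.Ab X} {W : Opens X} (s : Γ A W) (φ : A ⟶ B) :
    evalSec s φ = φ.hom.app (op W) s := rfl

lemma comp_app_apply {A B C : CohTop.Ab X} (φ : A ⟶ B) (ψ : B ⟶ C) {W : Opens X} (s : Γ A W) :
    (φ ≫ ψ).hom.app (op W) s = ψ.hom.app (op W) (φ.hom.app (op W) s) := rfl

/-! ### Finitely many shrinkings -/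

/-- finitely many properties of neighbourhoods, stable under shrinking, hold on a common
neighbourhood -/
lemma exists_common_nhd {ι : Type*} {T : Set ι} (hT : T.Finite) (x : X) (W : Opens X)
    (hxW : x ∈ W) (Q : ι → ∀ V : Opens X, V ≤ W → Prop)
    (hmono : ∀ σ V (hV : V ≤ W) V' (h' : V' ≤ V), Q σ V hV → Q σ V' (h'.trans hV))
    (h : ∀ σ ∈ T, ∃ (V : Opens X) (hV : V ≤ W), x ∈ V ∧ Q σ V hV) :
    ∃ (V : Opens X) (hV : V ≤ W), x ∈ V ∧ ∀ σ ∈ T, Q σ V hV := by
  classical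
  choose V hV hxV hQ using h
  let V' : ι → Opens X := fun σ => if hσ : σ ∈ T then V σ hσ else W
  have hV'W : ∀ σ, V' σ ≤ W := by
    intro σ
    by_cases hσ : σ ∈ T
    · simp only [V', dif_pos hσ]; exact hV σ hσ
    · simp only [V', dif_neg hσ]; exact le_refl W
  have hxV' : ∀ σ, x ∈ V' σ := by
    intro σ
    by_cases hσ : σ ∈ T
    · simp only [V', dif_pos hσ]; exact hxV σ hσ
    · simp only [V', dif_neg hσ]; exact hxW
  let V₀ : Opens X := ⟨(W : Set X) ∩ ⋂ σ ∈ T, (V' σ : Set X),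
    W.isOpen.inter (hT.isOpen_biInter (fun σ _ => (V' σ).isOpen))⟩
  have hV₀W : V₀ ≤ W := fun y hy => hy.1
  have hV₀ : ∀ σ (hσ : σ ∈ T), V₀ ≤ V σ hσ := by
    intro σ hσ y hy
    have := Set.mem_iInter₂.1 hy.2 σ hσ
    simp only [V', dif_pos hσ] at this
    exact this
  refine ⟨V₀, hV₀W, ⟨hxW, Set.mem_iInter₂.2 (fun σ _ => hxV' σ)⟩, fun σ hσ => ?_⟩
  exact hmono σ (V σ hσ) (hV σ hσ) V₀ (hV₀ σ hσ) (hQ σ hσ)

/-! ### The differential on sections -/

section D

variable {I : Type u} (U : I → Set X) (hU : ∀ i, IsClosed (U i)) (F : CohTop.Ab X)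

/-- the components of a section of `G^n` -/
noncomputable abbrev comp {n : ℕ} {W : Opens X} (s : Γ (Gn U F n) W) (σ : Fin (n + 1) → I) :
    Γ (AZ F (Zs U σ)) W :=
  (Pi.π (fun σ : Fin (n + 1) → I => AZ F (Zs U σ)) σ).hom.app (op W) s

/-- the unit on sections -/
noncomputable abbrev ηs {n : ℕ} (σ : Fin (n + 1) → I) {W : Opens X} (f : Γ F W) :
    Γ (AZ F (Zs U σ)) W :=
  (ηZ F (Zs U σ)).hom.app (op W) f

lemma cx_X (n : ℕ) : (cx U hU F).X n = Gn U F n := rfl

lemma cx_d_π (n : ℕ) (σ : Fin (n + 2) → I) :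
    (cx U hU F).d n (n + 1) ≫ Pi.π (fun σ : Fin (n + 2) → I => AZ F (Zs U σ)) σ =
      ∑ k : Fin (n + 2), (-1 : ℤ) ^ (k : ℕ) •
        (Pi.π (fun σ : Fin (n + 1) → I => AZ F (Zs U σ)) (σ ∘ Fin.succAbove k) ≫
          rZ F (Zs_comp_subset U (Fin.succAbove k) σ)) := by
  have h1 : (cx U hU F).d n (n + 1) =
      AlgebraicTopology.AlternatingCofaceMapComplex.objD (cosimp U hU F) n :=
    CochainComplex.of_d (fun n => (cosimp U hU F).obj (SimplexCategory.mk n))
      (AlgebraicTopology.AlternatingCofaceMapComplex.objD (cosimp U hU F)) n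
  have h2 : AlgebraicTopology.AlternatingCofaceMapComplex.objD (cosimp U hU F) n =
      ∑ k : Fin (n + 2), (-1 : ℤ) ^ (k : ℕ) • Gmap U F (Fin.succAbove k) := rfl
  refine (congrArg (fun t => t ≫ Pi.π (fun σ : Fin (n + 2) → I => AZ F (Zs U σ)) σ)
    (h1.trans h2)).trans ?_
  refine (Preadditive.sum_comp _ _ _).trans ?_
  refine Finset.sum_congr rfl (fun k _ => ?_)
  refine (Preadditive.zsmul_comp _ _ _).trans ?_
  congr 1
  exact Gmap_π U F (Fin.succAbove k) σ

/-- **The differential on sections whose components come from sections of `F`.** -/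
lemma comp_d {n : ℕ} {W : Opens X} (s : Γ (Gn U F n) W) (φ : (Fin (n + 1) → I) → Γ F W)
    (σ : Fin (n + 2) → I)
    (h : ∀ k : Fin (n + 2), comp U F s (σ ∘ Fin.succAbove k) = ηs U F _ (φ (σ ∘ Fin.succAbove k))) :
    comp U F (n := n + 1) (((cx U hU F).d n (n + 1)).hom.app (op W) s) σ =
      ηs U F σ (∑ k : Fin (n + 2), (-1 : ℤ) ^ (k : ℕ) • φ (σ ∘ Fin.succAbove k)) := by
  have h1 : comp U F (n := n + 1) (((cx U hU F).d n (n + 1)).hom.app (op W) s) σ =
      evalSec s ((cx U hU F).d n (n + 1) ≫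
        Pi.π (fun σ : Fin (n + 2) → I => AZ F (Zs U σ)) σ) := rfl
  rw [h1]
  refine (congrArg (evalSec s) (cx_d_π U hU F n σ)).trans ?_
  rw [map_sum]
  have h2 : ηs U F σ (∑ k : Fin (n + 2), (-1 : ℤ) ^ (k : ℕ) • φ (σ ∘ Fin.succAbove k)) =
      ∑ k : Fin (n + 2), (-1 : ℤ) ^ (k : ℕ) • ηs U F σ (φ (σ ∘ Fin.succAbove k)) := by
    unfold ηs
    rw [map_sum]
    refine Finset.sum_congr rfl (fun k _ => ?_)
    rw [map_zsmul]
  rw [h2]
  refine Finset.sum_congr rfl (fun k _ => ?_)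
  rw [map_zsmul]
  congr 1
  rw [evalSec_apply, comp_app_apply]
  have h3 := h k
  unfold comp at h3
  rw [h3]
  unfold ηs
  rw [← comp_app_apply, ηZ_rZ]

end D

end Groth.Agent.Lib.Helper33.ClosedCover
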