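import Groth.Agent.Lib.Helper33.ClosedCover.Exact1

/-!
# Exactness of the Čech-type complex of a locally finite closed cover (helper33)
-/

set_option autoImplicit false

universe u

open CategoryTheory CategoryTheory.Limits TopologicalSpace Opposite

namespace Groth.Agent.Lib.Helper33.ClosedCover

variable {X : TopCat.{u}}

variable {I : Type u} (U : I → Set X) (hU : ∀ i, IsClosed (U i)) (hLF : LocallyFinite U)
  (F : CohTop.Ab X)

/-- the multi-indices through a point -/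
def Tx (n : ℕ) (x : X) : Set (Fin (n + 1) → I) := {σ | ∀ k, x ∈ U (σ k)}

include hLF in
lemma finite_Tx (n : ℕ) (x : X) : (Tx U n x).Finite := by
  have h := hLF.point_finite x
  have h2 := Set.Finite.pi (ι := Fin (n + 1)) (t := fun _ => {i | x ∈ U i}) (fun _ => h)
  refine h2.subset ?_
  intro σ hσ k _
  exact hσ k

include hU hLF in
lemma exists_good_nhd (x : X) :
    ∃ N : Opens X, x ∈ N ∧ ∀ i y, y ∈ N → y ∈ U i → x ∈ U i := by
  have h := hLF.iInter_compl_mem_nhds hU x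
  obtain ⟨N, hN, hNo, hxN⟩ := mem_nhds_iff.1 h
  refine ⟨⟨N, hNo⟩, hxN, fun i y hy hyi => ?_⟩
  by_contra hxi
  have h3 := hN hy
  simp only [Set.mem_iInter] at h3
  exact h3 i hxi hyi

lemma subsingleton_comp {N : Opens X} {x : X} (hN : ∀ i y, y ∈ N → y ∈ U i → x ∈ U i)
    {n : ℕ} (σ : Fin (n + 1) → I) (hσ : σ ∉ Tx U n x) (W : Opens X) (hW : W ≤ N) :
    Subsingleton (Γ (AZ F (Zs U σ)) W) := by
  apply subsingleton_AZ
  ext y
  simp only [Set.mem_inter_iff, Set.mem_empty_iff_false, iff_false]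
  rintro ⟨hyW, hyZ⟩
  exact hσ (fun k => hN (σ k) y (hW hyW) (Set.mem_iInter.1 hyZ k))

lemma comp_rs {n : ℕ} {V W : Opens X} (h : V ≤ W) (b : Γ (Gn U F n) W) (σ : Fin (n + 1) → I) :
    comp U F (rs (Gn U F n) h b) σ = rs (AZ F (Zs U σ)) h (comp U F b σ) :=
  app_rs _ h b

lemma ηs_rs {n : ℕ} {V W : Opens X} (h : V ≤ W) (f : Γ F W) (σ : Fin (n + 1) → I) :
    ηs U F σ (rs F h f) = rs (AZ F (Zs U σ)) h (ηs U F σ f) :=
  app_rs _ h f

include hU hLF in
/-- sections of `G^m` near a point lift componentwise to sections of `F` -/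
lemma exists_local_lift {N : Opens X} {x : X} (hN : ∀ i y, y ∈ N → y ∈ U i → x ∈ U i)
    {m : ℕ} {W : Opens X} (hWN : W ≤ N) (hxW : x ∈ W) (b : Γ (Gn U F m) W) :
    ∃ (V : Opens X) (hV : V ≤ W), x ∈ V ∧ ∃ fL : (Fin (m + 1) → I) → Γ F V,
      ∀ ρ, ηs U F ρ (fL ρ) = comp U F (rs (Gn U F m) hV b) ρ := by
  classical
  have hfin := finite_Tx U hLF m x
  obtain ⟨V, hV, hxV, hQ⟩ := exists_common_nhd hfin x W hxW
    (fun ρ V hV => ∃ f : Γ F V, ηs U F ρ f = comp U F (rs (Gn U F m) hV b) ρ)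
    (by
      rintro ρ V hV V' h' ⟨f, hf⟩
      refine ⟨rs F h' f, ?_⟩
      rw [ηs_rs, hf, ← comp_rs, rs_rs])
    (by
      intro ρ _
      have := epi_ηZ F (isClosed_Zs U hU ρ)
      obtain ⟨V, hV, hxV, a, ha⟩ :=
        locally_surjective_of_epi (ηZ F (Zs U ρ)) (comp U F b ρ) x hxW
      refine ⟨V, hV, hxV, a, ?_⟩
      rw [comp_rs]
      exact ha)
  choose! f hf using hQ
  refine ⟨V, hV, hxV, fun ρ => if ρ ∈ Tx U m x then f ρ else 0, fun ρ => ?_⟩
  by_cases hρ : ρ ∈ Tx U m x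
  · show ηs U F ρ (if ρ ∈ Tx U m x then f ρ else 0) = _
    rw [if_pos hρ]
    exact hf ρ hρ
  · have := subsingleton_comp U F hN ρ hρ V (hV.trans hWN)
    exact Subsingleton.elim _ _

lemma cons_comp_succAbove_zero {m : ℕ} (j : I) (σ : Fin (m + 1) → I) :
    (Fin.cons j σ : Fin (m + 2) → I) ∘ Fin.succAbove 0 = σ := by
  funext i
  simp [Fin.succAbove_zero]

lemma cons_comp_succAbove_succ {m : ℕ} (j : I) (σ : Fin (m + 1) → I) (k : Fin (m + 1)) :
    (Fin.cons j σ : Fin (m + 2) → I) ∘ Fin.succAbove k.succ =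
      (Fin.cons j (σ ∘ Fin.succAbove k) : Fin (m + 1) → I) := by
  funext i
  refine Fin.cases ?_ (fun i => ?_) i
  · simp
  · simp

/-- the differential with the expected source and target -/
noncomputable def dG (n : ℕ) : Gn U F n ⟶ Gn U F (n + 1) := (cx U hU F).d n (n + 1)

lemma comp_dG {n : ℕ} {W : Opens X} (s : Γ (Gn U F n) W) (φ : (Fin (n + 1) → I) → Γ F W)
    (σ : Fin (n + 2) → I)
    (h : ∀ k : Fin (n + 2), comp U F s (σ ∘ Fin.succAbove k) = ηs U F _ (φ (σ ∘ Fin.succAbove k))) :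
    comp U F (n := n + 1) ((dG U hU F n).hom.app (op W) s) σ =
      ηs U F σ (∑ k : Fin (n + 2), (-1 : ℤ) ^ (k : ℕ) • φ (σ ∘ Fin.succAbove k)) :=
  comp_d U hU F s φ σ h

include hLF in
/-- **The local primitive**: near a point of `U j`, a cocycle of degree `m` has components of
the form `η (∑ (-1)^k fL (j, σ ∘ δ_k))`. -/
lemma exists_local_primitive {x : X} (j : I) (hj : x ∈ U j) (m : ℕ) {W : Opens X} (hxW : x ∈ W)
    (b : Γ (Gn U F m) W) (hb : (dG U hU F m).hom.app (op W) b = 0) :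
    ∃ (V : Opens X) (hV : V ≤ W), x ∈ V ∧ ∃ fL : (Fin (m + 1) → I) → Γ F V,
      ∀ σ : Fin (m + 1) → I, comp U F (rs (Gn U F m) hV b) σ =
        ηs U F σ (∑ k : Fin (m + 1), (-1 : ℤ) ^ (k : ℕ) •
          fL (Fin.cons j (σ ∘ Fin.succAbove k) : Fin (m + 1) → I)) := by
  classical
  obtain ⟨N, hxN, hN⟩ := exists_good_nhd U hU hLF x
  have hW₁W : W ⊓ N ≤ W := inf_le_left
  have hW₁N : W ⊓ N ≤ N := inf_le_right
  have hxW₁ : x ∈ W ⊓ N := ⟨hxW, hxN⟩
  obtain ⟨V₁, hV₁, hxV₁, fL, hfL⟩ :=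
    exists_local_lift U hU hLF F hN hW₁N hxW₁ (rs (Gn U F m) hW₁W b)
  have hb₁ : (dG U hU F m).hom.app (op V₁)
      (rs (Gn U F m) hV₁ (rs (Gn U F m) hW₁W b)) = 0 := by
    rw [app_rs, app_rs, hb, map_zero, map_zero]
  let gL : (Fin (m + 1) → I) → Γ F V₁ := fun σ =>
    ∑ k : Fin (m + 1), (-1 : ℤ) ^ (k : ℕ) • fL (Fin.cons j (σ ∘ Fin.succAbove k) : Fin (m + 1) → I)
  have hkey : ∀ σ : Fin (m + 1) → I,
      ηs U F (Fin.cons j σ : Fin (m + 2) → I) (fL σ - gL σ) = 0 := by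
    intro σ
    have h1 := comp_dG U hU F (rs (Gn U F m) hV₁ (rs (Gn U F m) hW₁W b)) fL
      (Fin.cons j σ : Fin (m + 2) → I) (fun k => (hfL _).symm)
    have h2 : comp U F (n := m + 1) ((dG U hU F m).hom.app (op V₁)
        (rs (Gn U F m) hV₁ (rs (Gn U F m) hW₁W b))) (Fin.cons j σ : Fin (m + 2) → I) = 0 := by
      rw [hb₁]
      exact map_zero _
    rw [h2] at h1
    rw [h1]
    congr 1
    rw [Fin.sum_univ_succ]
    rw [cons_comp_succAbove_zero]
    simp only [Fin.val_zero, pow_zero, one_smul, Fin.val_succ, pow_succ, mul_neg, mul_one,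
      neg_smul, cons_comp_succAbove_succ, Finset.sum_neg_distrib, gL]
    abel
  have hfin := finite_Tx U hLF m x
  obtain ⟨V₂, hV₂, hxV₂, hQ⟩ := exists_common_nhd hfin x V₁ hxV₁
    (fun σ V hV => rs F hV (fL σ - gL σ) = 0)
    (fun σ V hV V' h' hq => by rw [← rs_rs F h' hV, hq, map_zero])
    (fun σ hσ => by
      have hxZ : x ∈ Zs U (Fin.cons j σ : Fin (m + 2) → I) := by
        rw [mem_Zs]
        intro k
        refine Fin.cases ?_ (fun i => ?_) k
        · simpa using hj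
        · simpa using hσ i
      exact eq_zero_near_of_ηZ_eq_zero F (isClosed_Zs U hU _) _ (hkey σ) x hxV₁ hxZ)
  refine ⟨V₂, hV₂.trans (hV₁.trans hW₁W), hxV₂, fun ρ => rs F hV₂ (fL ρ), fun σ => ?_⟩
  have e1 : rs (Gn U F m) (hV₂.trans (hV₁.trans hW₁W)) b =
      rs (Gn U F m) hV₂ (rs (Gn U F m) hV₁ (rs (Gn U F m) hW₁W b)) := by
    rw [rs_rs, rs_rs]
  have e2 : (∑ k : Fin (m + 1), (-1 : ℤ) ^ (k : ℕ) •
      rs F hV₂ (fL (Fin.cons j (σ ∘ Fin.succAbove k) : Fin (m + 1) → I))) =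
        rs F hV₂ (gL σ) := by
    simp only [gL, map_sum, map_zsmul]
  rw [e1, comp_rs, ← hfL, ← ηs_rs, e2]
  by_cases hσ : σ ∈ Tx U m x
  · have h3 := hQ σ hσ
    rw [map_sub, sub_eq_zero] at h3
    rw [h3]
  · have := subsingleton_comp U F hN σ hσ V₂ (hV₂.trans (hV₁.trans hW₁N))
    exact Subsingleton.elim _ _

lemma dG_eq (n : ℕ) : dG U hU F n =
    ∑ k : Fin (n + 2), (-1 : ℤ) ^ (k : ℕ) • Gmap U F (Fin.succAbove k) :=
  (CochainComplex.of_d (fun n => (cosimp U hU F).obj (SimplexCategory.mk n))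
    (AlgebraicTopology.AlternatingCofaceMapComplex.objD (cosimp U hU F)) n).trans rfl

lemma εn_dG : εn U F 0 ≫ dG U hU F 0 = 0 := by
  rw [dG_eq, Preadditive.comp_sum, Fin.sum_univ_two]
  simp only [Preadditive.comp_zsmul, εn_Gmap]
  simp

lemma comp_εn {W : Opens X} (s : Γ F W) (n : ℕ) (σ : Fin (n + 1) → I) :
    comp U F ((εn U F n).hom.app (op W) s) σ = ηs U F σ s := by
  have h := εn_π U F n σ
  exact congrFun (congrArg (fun t => (ConcreteCategory.hom (t.hom.app (op W)) : _ → _)) h) s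

section Cov

variable (hcov : ⋃ i, U i = Set.univ)

include hcov in
lemma exists_mem (x : X) : ∃ j, x ∈ U j := by
  have : x ∈ ⋃ i, U i := hcov ▸ Set.mem_univ x
  exact Set.mem_iUnion.1 this

include hLF hcov in
lemma locally_exact_succ (n : ℕ) {W : Opens X} (b : Γ (Gn U F (n + 1)) W)
    (hb : (dG U hU F (n + 1)).hom.app (op W) b = 0) (x : X) (hxW : x ∈ W) :
    ∃ (V : Opens X) (hV : V ≤ W), x ∈ V ∧ ∃ a : Γ (Gn U F n) V,
      (dG U hU F n).hom.app (op V) a = rs (Gn U F (n + 1)) hV b := by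
  obtain ⟨j, hj⟩ := exists_mem U hcov x
  obtain ⟨V, hV, hxV, fL, hfL⟩ := exists_local_primitive U hU hLF F j hj (n + 1) hxW b hb
  obtain ⟨a, ha⟩ := secPi_mk (fun τ : Fin (n + 1) → I => AZ F (Zs U τ)) V
    (fun τ => ηs U F τ (fL (Fin.cons j τ)))
  refine ⟨V, hV, hxV, a, ?_⟩
  apply secPi_ext
  intro σ
  have h1 := comp_dG U hU F a (fun τ => fL (Fin.cons j τ)) σ (fun k => ha _)
  exact h1.trans (hfL σ).symm

include hLF hcov in
lemma locally_exact_zero {W : Opens X} (b : Γ (Gn U F 0) W)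
    (hb : (dG U hU F 0).hom.app (op W) b = 0) (x : X) (hxW : x ∈ W) :
    ∃ (V : Opens X) (hV : V ≤ W), x ∈ V ∧ ∃ a : Γ F V,
      (εn U F 0).hom.app (op V) a = rs (Gn U F 0) hV b := by
  obtain ⟨j, hj⟩ := exists_mem U hcov x
  obtain ⟨V, hV, hxV, fL, hfL⟩ := exists_local_primitive U hU hLF F j hj 0 hxW b hb
  refine ⟨V, hV, hxV, fL (fun _ => j), ?_⟩
  apply secPi_ext
  intro σ
  refine (comp_εn U F _ 0 σ).trans ?_
  refine Eq.trans ?_ (hfL σ).symm
  congr 1
  rw [Fin.sum_univ_succ, Fin.sum_univ_zero]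
  simp only [Fin.val_zero, pow_zero, one_smul, add_zero]
  congr 1
  funext i
  obtain rfl : i = 0 := Fin.fin_one_eq_zero i
  simp

include hU hcov in
lemma mono_εn0 : Mono (εn U F 0) := by
  have h1 : ∀ W : Opens X, Function.Injective ((εn U F 0).hom.app (op W)) := by
    intro W
    refine (injective_iff_map_eq_zero (ConcreteCategory.hom ((εn U F 0).hom.app (op W)))).2 ?_
    intro s hs
    apply eq_zero_of_locally
    intro x hxW
    obtain ⟨j, hj⟩ := exists_mem U hcov x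
    have h2 : ηs U F (fun _ : Fin 1 => j) s = 0 := by
      rw [← comp_εn U F s 0 (fun _ : Fin 1 => j)]
      refine (congrArg (fun t => comp U F (n := 0) t (fun _ : Fin 1 => j)) hs).trans ?_
      exact map_zero _
    have hxZ : x ∈ Zs U (fun _ : Fin 1 => j) := by
      rw [mem_Zs]
      intro _
      exact hj
    exact eq_zero_near_of_ηZ_eq_zero F (isClosed_Zs U hU _) s h2 x hxW hxZ
  have h2 : ∀ W : (Opens X)ᵒᵖ, Mono ((εn U F 0).hom.app W) := by
    intro W
    exact (AddCommGrpCat.mono_iff_injective _).2 (h1 W.unop)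
  have h3 : Mono (εn U F 0).hom := NatTrans.mono_of_mono_app _
  exact (Sheaf.Hom.mono_iff_presheaf_mono _ _ _).2 h3

include hLF hcov in
/-- **Exactness of the Čech-type complex in positive degrees.** -/
theorem exactAt_succ (n : ℕ) : (cx U hU F).ExactAt (n + 1) := by
  rw [HomologicalComplex.exactAt_iff' _ n (n + 1) (n + 2) (by simp) (by simp)]
  apply exact_of_locally
  intro W b hb x hxW
  exact locally_exact_succ U hU hLF F hcov n b hb x hxW

include hLF hcov in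
/-- **The Čech-type complex resolves `F`.** -/
theorem nonempty_cycles0Iso : Nonempty ((cx U hU F).cycles 0 ≅ F) := by
  let S : ShortComplex (CohTop.Ab X) := ShortComplex.mk (εn U F 0) (dG U hU F 0) (εn_dG U hU F)
  have hS : S.Exact := exact_of_locally S (fun W b hb x hxW =>
    locally_exact_zero U hU hLF F hcov b hb x hxW)
  have : Mono S.f := mono_εn0 U hU F hcov
  have h1 : IsLimit (KernelFork.ofι S.f S.zero) := hS.fIsKernel
  have h2 := (cx U hU F).cyclesIsKernel 0 1 (by simp)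
  exact ⟨IsLimit.conePointUniqueUpToIso h2 h1⟩

end Cov

end Groth.Agent.Lib.Helper33.ClosedCover
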