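import Groth.Prelude.Def_CohTop
import Mathlib.CategoryTheory.Sites.EpiMono
import Mathlib.CategoryTheory.Sites.LocallySurjective
import Mathlib.Algebra.Homology.ShortComplex.Exact
import Mathlib.Algebra.Category.Grp.EpiMono
import Mathlib.Algebra.Category.Grp.Abelian
import Mathlib.CategoryTheory.Sites.Abelian
import Mathlib.CategoryTheory.Sites.Limits
import Mathlib.Algebra.Homology.ShortComplex.Ab

/-!
# Local calculus for abelian sheaves on a topological space (helper33)

Sectionwise criteria for epimorphisms and exactness of abelian sheaves on a topological space.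
-/

set_option autoImplicit false

universe u

open CategoryTheory CategoryTheory.Limits TopologicalSpace Opposite

namespace Groth.Agent.Lib.Helper33.ClosedCover

variable {X : TopCat.{u}}

/-- sections of an abelian sheaf over an open -/
abbrev Γ (F : CohTop.Ab X) (W : Opens X) : AddCommGrpCat.{u} := F.obj.obj (op W)

/-- restriction of sections -/
abbrev rs (F : CohTop.Ab X) {V W : Opens X} (h : V ≤ W) : Γ F W ⟶ Γ F V := F.obj.map (homOfLE h).op

lemma rs_rs (F : CohTop.Ab X) {V' V W : Opens X} (h' : V' ≤ V) (h : V ≤ W) (s : Γ F W) :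
    rs F h' (rs F h s) = rs F (h'.trans h) s := by
  show (F.obj.map (homOfLE h).op ≫ F.obj.map (homOfLE h').op) s = _
  rw [← F.obj.map_comp]
  rfl

lemma rs_self (F : CohTop.Ab X) {W : Opens X} (s : Γ F W) : rs F (le_refl W) s = s := by
  show F.obj.map (𝟙 (op W)) s = s
  rw [F.obj.map_id]
  rfl

lemma app_rs {F G : CohTop.Ab X} (φ : F ⟶ G) {V W : Opens X} (h : V ≤ W) (s : Γ F W) :
    φ.hom.app (op V) (rs F h s) = rs G h (φ.hom.app (op W) s) :=
  (congrFun (congrArg (fun t => (ConcreteCategory.hom t : _ → _))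
    (φ.hom.naturality (homOfLE h).op)) s)

/-- separatedness: a section which is locally zero is zero -/
lemma eq_zero_of_locally (F : CohTop.Ab X) {W : Opens X} (s : Γ F W)
    (h : ∀ x ∈ W, ∃ (V : Opens X) (hV : V ≤ W), x ∈ V ∧ rs F hV s = 0) : s = 0 := by
  choose V hV hxV h0 using h
  refine TopCat.Sheaf.eq_of_locally_eq' (F := (F : TopCat.Sheaf AddCommGrpCat.{u} X))
    (fun x : W => V x.1 x.2) W (fun x => homOfLE (hV x.1 x.2)) ?_ s 0 (fun x => ?_)
  · intro x hx
    exact Opens.mem_iSup.2 ⟨⟨x, hx⟩, hxV x hx⟩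
  · rw [map_zero]
    exact h0 x.1 x.2

/-- an epimorphism of abelian sheaves is locally surjective -/
lemma locally_surjective_of_epi {F G : CohTop.Ab X} (φ : F ⟶ G) [Epi φ] {W : Opens X}
    (b : Γ G W) (x : X) (hx : x ∈ W) :
    ∃ (V : Opens X) (hV : V ≤ W), x ∈ V ∧ ∃ a : Γ F V, φ.hom.app (op V) a = rs G hV b := by
  have h : Sheaf.IsLocallySurjective φ := (Sheaf.isLocallySurjective_iff_epi' (φ := φ)).2 inferInstance
  have h' : Presheaf.IsLocallySurjective (Opens.grothendieckTopology X) φ.hom := h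
  obtain ⟨V, f, ⟨a, ha⟩, hxV⟩ := h'.imageSieve_mem b x hx
  exact ⟨V, leOfHom f, hxV, a, ha⟩

/-- a locally surjective morphism of abelian sheaves is an epimorphism -/
lemma epi_of_locally_surjective {F G : CohTop.Ab X} (φ : F ⟶ G)
    (h : ∀ (W : Opens X) (b : Γ G W) (x : X), x ∈ W →
      ∃ (V : Opens X) (hV : V ≤ W), x ∈ V ∧ ∃ a : Γ F V, φ.hom.app (op V) a = rs G hV b) :
    Epi φ := by
  rw [← Sheaf.isLocallySurjective_iff_epi']
  show Presheaf.IsLocallySurjective (Opens.grothendieckTopology X) φ.hom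
  constructor
  intro W b x hx
  obtain ⟨V, hV, hxV, a, ha⟩ := h W b x hx
  exact ⟨V, homOfLE hV, ⟨a, ha⟩, hxV⟩

/-- a monomorphism of abelian sheaves is injective on sections -/
lemma app_injective_of_mono {F G : CohTop.Ab X} (φ : F ⟶ G) [Mono φ] (W : Opens X) :
    Function.Injective (φ.hom.app (op W)) := by
  have h1 : Mono φ.hom := (Sheaf.Hom.mono_iff_presheaf_mono _ _ φ).1 inferInstance
  have h2 : Mono (φ.hom.app (op W)) := inferInstance
  exact (AddCommGrpCat.mono_iff_injective _).1 h2

/-- the sectionwise criterion for exactness of a short complex of abelian sheaves -/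
lemma exact_of_locally (S : ShortComplex (CohTop.Ab X))
    (h : ∀ (W : Opens X) (b : Γ S.X₂ W), S.g.hom.app (op W) b = 0 → ∀ x ∈ W,
      ∃ (V : Opens X) (hV : V ≤ W), x ∈ V ∧ ∃ a : Γ S.X₁ V,
        S.f.hom.app (op V) a = rs S.X₂ hV b) : S.Exact := by
  rw [ShortComplex.exact_iff_epi_kernel_lift]
  apply epi_of_locally_surjective
  intro W c x hx
  have hc : S.g.hom.app (op W) ((kernel.ι S.g).hom.app (op W) c) = 0 := by
    have h0 : kernel.ι S.g ≫ S.g = 0 := kernel.condition _
    have h1 : ((kernel.ι S.g).hom.app (op W) ≫ S.g.hom.app (op W)) c = 0 := by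
      have h2 : (kernel.ι S.g).hom.app (op W) ≫ S.g.hom.app (op W) = 0 := by
        have := congrArg (fun t => t.hom.app (op W)) h0
        exact this
      rw [h2]
      rfl
    exact h1
  obtain ⟨V, hV, hxV, a, ha⟩ := h W _ hc x hx
  refine ⟨V, hV, hxV, a, ?_⟩
  apply app_injective_of_mono (kernel.ι S.g) V
  have h3 : (kernel.lift S.g S.f S.zero ≫ kernel.ι S.g) = S.f := kernel.lift_ι _ _ _
  have h4 : (kernel.ι S.g).hom.app (op V) ((kernel.lift S.g S.f S.zero).hom.app (op V) a) =
      S.f.hom.app (op V) a :=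
    congrFun (congrArg (fun t => (ConcreteCategory.hom (t.hom.app (op V)) : _ → _)) h3) a
  rw [h4, ha, app_rs]

/-- the sections functor over an open -/
noncomputable abbrev secF (W : Opens X) : CohTop.Ab X ⥤ AddCommGrpCat.{u} :=
  sheafToPresheaf _ _ ⋙ (evaluation _ _).obj (op W)

instance (W : Opens X) : (secF (X := X) W).Additive where

/-- exact sequences of abelian sheaves are locally exact on sections -/
lemma locally_of_exact (S : ShortComplex (CohTop.Ab X)) (hS : S.Exact) {W : Opens X}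
    (b : Γ S.X₂ W) (hb : S.g.hom.app (op W) b = 0) (x : X) (hx : x ∈ W) :
    ∃ (V : Opens X) (hV : V ≤ W), x ∈ V ∧ ∃ a : Γ S.X₁ V,
      S.f.hom.app (op V) a = rs S.X₂ hV b := by
  rw [ShortComplex.exact_iff_epi_kernel_lift] at hS
  -- lift `b` to the kernel
  let S' : ShortComplex (CohTop.Ab X) := ShortComplex.mk (kernel.ι S.g) S.g (kernel.condition _)
  have hS' : S'.Exact := ShortComplex.exact_of_f_is_kernel _ (kernelIsKernel _)
  have hm : Mono S'.f := inferInstanceAs (Mono (kernel.ι S.g))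
  have hex : (S'.map (secF W)).Exact :=
    hS'.map_of_mono_of_preservesKernel (secF W) hm inferInstance
  obtain ⟨c, hc⟩ := (ShortComplex.ab_exact_iff _).1 hex b hb
  obtain ⟨V, hV, hxV, a, ha⟩ := locally_surjective_of_epi (kernel.lift S.g S.f S.zero) c x hx
  refine ⟨V, hV, hxV, a, ?_⟩
  have h3 : (kernel.lift S.g S.f S.zero ≫ kernel.ι S.g) = S.f := kernel.lift_ι _ _ _
  have h4 : (kernel.ι S.g).hom.app (op V) ((kernel.lift S.g S.f S.zero).hom.app (op V) a) =
      S.f.hom.app (op V) a :=
    congrFun (congrArg (fun t => (ConcreteCategory.hom (t.hom.app (op V)) : _ → _)) h3) a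
  rw [← h4, ha, app_rs]
  exact congrArg _ hc

end Groth.Agent.Lib.Helper33.ClosedCover
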