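import Groth.Agent.Lib.Helper33.ClosedCover.Exact1

/-!
# Locally finite products of exact sequences of abelian sheaves are exact (helper33)
-/

set_option autoImplicit false

universe u

open CategoryTheory CategoryTheory.Limits TopologicalSpace Opposite

namespace Groth.Agent.Lib.Helper33.ClosedCover

variable {X : TopCat.{u}} {ι : Type u}

/-- a family of abelian sheaves is locally finite if every point has a neighbourhood on which all
but finitely many members have no nonzero sections -/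
def LocFinFam (A : ι → CohTop.Ab X) : Prop :=
  ∀ x : X, ∃ N : Opens X, x ∈ N ∧ ∃ T : Set ι, T.Finite ∧
    ∀ σ, σ ∉ T → ∀ W : Opens X, W ≤ N → Subsingleton (Γ (A σ) W)

lemma piMap_π_apply {A B : ι → CohTop.Ab X} (φ : ∀ σ, A σ ⟶ B σ) (σ : ι) {W : Opens X}
    (s : Γ (∏ᶜ A) W) :
    (Pi.π B σ).hom.app (op W) ((Limits.Pi.map φ).hom.app (op W) s) =
      (φ σ).hom.app (op W) ((Pi.π A σ).hom.app (op W) s) := by
  have h := Limits.Pi.map_π φ σ
  exact congrFun (congrArg (fun t => (ConcreteCategory.hom (t.hom.app (op W)) : _ → _)) h) s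

variable (S : ι → ShortComplex (CohTop.Ab X))

/-- the product of a family of short complexes -/
noncomputable def prodSC : ShortComplex (CohTop.Ab X) :=
  ShortComplex.mk (Limits.Pi.map fun σ => (S σ).f) (Limits.Pi.map fun σ => (S σ).g) (by
    apply Pi.hom_ext
    intro σ
    simp)

/-- **A locally finite product of exact sequences is exact.** -/
lemma prodSC_exact (hS : ∀ σ, (S σ).Exact) (hLF : LocFinFam (fun σ => (S σ).X₂)) :
    (prodSC S).Exact := by
  classical
  apply exact_of_locally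
  intro W b hb x hxW
  obtain ⟨N, hxN, T, hT, hsub⟩ := hLF x
  have hW₁W : W ⊓ N ≤ W := inf_le_left
  have hW₁N : W ⊓ N ≤ N := inf_le_right
  have hxW₁ : x ∈ W ⊓ N := ⟨hxW, hxN⟩
  have hbσ : ∀ σ, (S σ).g.hom.app (op W) ((Pi.π (fun σ => (S σ).X₂) σ).hom.app (op W) b) = 0 := by
    intro σ
    have h1 := piMap_π_apply (fun σ => (S σ).g) σ b
    refine h1.symm.trans ?_
    refine (congrArg (fun t => (Pi.π (fun σ => (S σ).X₃) σ).hom.app (op W) t) hb).trans ?_
    exact map_zero _
  obtain ⟨V, hV, hxV, hQ⟩ := exists_common_nhd hT x (W ⊓ N) hxW₁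
    (fun σ V hV => ∃ a : Γ (S σ).X₁ V, (S σ).f.hom.app (op V) a =
      rs (S σ).X₂ (hV.trans hW₁W) ((Pi.π (fun σ => (S σ).X₂) σ).hom.app (op W) b))
    (by
      rintro σ V hV V' h' ⟨a, ha⟩
      refine ⟨rs (S σ).X₁ h' a, ?_⟩
      rw [app_rs, ha, rs_rs])
    (by
      intro σ _
      obtain ⟨V, hV, hxV, a, ha⟩ := locally_of_exact (S σ) (hS σ)
        (rs (S σ).X₂ hW₁W ((Pi.π (fun σ => (S σ).X₂) σ).hom.app (op W) b))
        (by rw [app_rs, hbσ, map_zero]) x hxW₁
      refine ⟨V, hV, hxV, a, ?_⟩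
      rw [ha, rs_rs])
  choose! a ha using hQ
  obtain ⟨a', ha'⟩ := secPi_mk (fun σ => (S σ).X₁) V (fun σ => if σ ∈ T then a σ else 0)
  refine ⟨V, hV.trans hW₁W, hxV, a', ?_⟩
  apply secPi_ext
  intro σ
  refine (piMap_π_apply (fun σ => (S σ).f) σ a').trans ?_
  by_cases hσ : σ ∈ T
  · rw [ha' σ, if_pos hσ, ha σ hσ]
    exact (app_rs (Pi.π (fun σ => (S σ).X₂) σ) (hV.trans hW₁W) b).symm
  · have := hsub σ hσ V (hV.trans hW₁N)
    exact Subsingleton.elim _ _

/-- **A locally finite product of short exact sequences is short exact.** -/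
lemma prodSC_shortExact (hS : ∀ σ, (S σ).ShortExact) (hLF₂ : LocFinFam (fun σ => (S σ).X₂))
    (hLF₃ : LocFinFam (fun σ => (S σ).X₃)) : (prodSC S).ShortExact := by
  have hm : ∀ σ, Mono (S σ).f := fun σ => (hS σ).mono_f
  have he : ∀ σ, Epi (S σ).g := fun σ => (hS σ).epi_g
  refine ShortComplex.ShortExact.mk' (prodSC_exact S (fun σ => (hS σ).exact) hLF₂) ?_ ?_
  · exact inferInstanceAs (Mono (Limits.Pi.map fun σ => (S σ).f))
  · let S' : ι → ShortComplex (CohTop.Ab X) := fun σ =>
      ShortComplex.mk (S σ).g (0 : (S σ).X₃ ⟶ (S σ).X₃) comp_zero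
    have hS' : ∀ σ, (S' σ).Exact := fun σ =>
      (ShortComplex.exact_iff_epi (S' σ) rfl).2 (he σ)
    have h1 := prodSC_exact S' hS' hLF₃
    have h2 : (prodSC S').g = 0 := by
      apply Pi.hom_ext
      intro σ
      simp only [prodSC, S', Limits.Pi.map_π, comp_zero]
      exact zero_comp.symm
    exact (ShortComplex.exact_iff_epi (prodSC S') h2).1 h1

end Groth.Agent.Lib.Helper33.ClosedCover
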